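import Groth.Agent.HTopCov.Square
import Groth.Agent.HTopCov.Sheaf
import Groth.Agent.BlowUpLib.Glue

/-! ph sheaves turn blow up squares into cartesian squares. -/

set_option autoImplicit false
set_option backward.isDefEq.respectTransparency false
set_option backward.isDefEq.respectTransparency.types false

universe w u

namespace Groth.Agent.HTopPh

open CategoryTheory CategoryTheory.Limits AlgebraicGeometry IsLocalRing HTop Opposite

variable {S T : Scheme.{u}}

theorem isProper_sigmaDesc {X : Scheme.{u}} {ι : Type u} [Finite ι] {Y : ι → Scheme.{u}}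
    (f : ∀ i, Y i ⟶ X) (hf : ∀ i, IsProper (f i)) : IsProper (Sigma.desc f) := by
  induction ι using Finite.induction_empty_option with
  | @of_equiv α β e ih =>
    have h : IsProper (Sigma.desc fun a => f (e a)) := ih _ fun a => hf (e a)
    have : Sigma.desc f = (Sigma.reindex e Y).inv ≫ Sigma.desc fun a => f (e a) := by
      rw [Iso.eq_inv_comp]
      refine Sigma.hom_ext _ _ fun a => ?_
      simp
    rw [this]
    exact MorphismProperty.comp_mem _ _ _ inferInstance h
  | h_empty =>
    haveI : IsEmpty ↥(∐ Y) := ⟨fun z => by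
      obtain ⟨i, -⟩ := (sigmaMk Y).surjective z
      exact i.1.elim⟩
    infer_instance
  | @h_option α _ ih =>
    let φ : (∐ fun a : α => Y (some a)) ⨿ Y none ⟶ ∐ Y :=
      coprod.desc (Sigma.desc fun a => Sigma.ι Y (some a)) (Sigma.ι Y none)
    let ψ : ∐ Y ⟶ (∐ fun a : α => Y (some a)) ⨿ Y none :=
      Sigma.desc fun o => match o with
        | some a => Sigma.ι (fun a : α => Y (some a)) a ≫ coprod.inl
        | none => coprod.inr
    haveI : IsIso ψ := ⟨φ, by
      refine Sigma.hom_ext _ _ fun o => ?_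
      cases o <;> simp [φ, ψ] <;> (first | exact coprod.inr_desc _ _ |
        (erw [coprod.inl_desc]; simp)), by
      apply coprod.hom_ext
      · refine Sigma.hom_ext _ _ fun a => ?_
        simp [φ, ψ]
      · simp [φ, ψ]⟩
    have : Sigma.desc f = ψ ≫ coprod.desc (Sigma.desc fun a => f (some a)) (f none) := by
      refine Sigma.hom_ext _ _ fun o => ?_
      cases o <;> simp [ψ] <;> (first | exact (coprod.inr_desc _ _).symm |
        (erw [coprod.inl_desc]; simp))
    rw [this]
    haveI : IsProper (Sigma.desc fun a => f (some a)) := ih (fun a => f (some a)) fun a => hf _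
    haveI := hf none
    haveI : IsProper (coprod.desc (Sigma.desc fun a => f (some a)) (f none)) := by
      rw [show coprod.desc (Sigma.desc fun a => f (some a)) (f none) =
        coprod.map (Sigma.desc fun a => f (some a)) (f none) ≫ coprod.desc (𝟙 X) (𝟙 X) by simp]
      haveI : IsProper (coprod.map (Sigma.desc fun a => f (some a)) (f none)) :=
        IsZariskiLocalAtTarget.coprodMap (P := @IsProper) _ _ inferInstance inferInstance
      haveI : IsProper (coprod.desc (𝟙 X) (𝟙 X)) := by
        haveI : IsIntegralHom (coprod.desc (𝟙 X) (𝟙 X)) := inferInstance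
        haveI : LocallyOfFiniteType (coprod.desc (𝟙 X) (𝟙 X)) := inferInstance
        haveI : IsFinite (coprod.desc (𝟙 X) (𝟙 X)) :=
          (IsFinite.iff_isIntegralHom_and_locallyOfFiniteType _).2 ⟨inferInstance, inferInstance⟩
        infer_instance
      infer_instance
    infer_instance


theorem isPhCover_of_proper_family (E : PreZeroHypercover.{u} T) [Finite E.I₀] (hp : ∀ i, IsProper (E.f i))
    (hs : ∀ t, ∃ i x, E.f i x = t) : IsPhCover E := by
  refine ⟨fun i => by haveI := hp i; infer_instance, fun U => ?_⟩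
  haveI : IsAffine (U.1 : Scheme.{u}) := U.2
  let Y : E.I₀ → Scheme.{u} := fun i => (E.f i ⁻¹ᵁ U.1).toScheme
  haveI : ∀ i, IsProper (E.f i ∣_ U.1) := fun i => IsZariskiLocalAtTarget.restrict (hp i) U.1
  haveI : ∀ i, CompactSpace (Y i) := fun i => QuasiCompact.compactSpace_of_compactSpace (E.f i ∣_ U.1)
  let g : (∐ Y) ⟶ (U.1 : Scheme.{u}) := Sigma.desc fun i => E.f i ∣_ U.1
  let C : ∀ i, (Y i).OpenCover := fun i => (Y i).affineCover.finiteSubcover
  haveI : ∀ i, Finite (C i).I₀ := fun i => inferInstanceAs (Finite ((Y i).affineCover.finiteSubcover).I₀)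
  let e := (Finite.exists_equiv_fin (Σ i, (C i).I₀)).choose_spec.some
  haveI : IsProper g := isProper_sigmaDesc _ fun _ => inferInstance
  haveI : Surjective g := ⟨fun x => by
    obtain ⟨i, y, hy⟩ := hs (U.1.ι x)
    refine ⟨Sigma.ι Y i ⟨y, ?_⟩, ?_⟩
    · change E.f i y ∈ U.1
      rw [hy]; exact x.2
    · rw [← Scheme.Hom.comp_apply, Sigma.ι_desc]
      refine U.1.ι.isOpenEmbedding.injective ?_
      rw [← Scheme.Hom.comp_apply, morphismRestrict_ι]
      exact hy⟩
  refine ⟨⟨Fin _, fun j => (C (e.symm j).1).X (e.symm j).2,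
      fun j => (C (e.symm j).1).f (e.symm j).2 ≫ (E.f (e.symm j).1 ∣_ U.1)⟩,
    ⟨inferInstance, inferInstanceAs (Finite (Fin _)), fun j => inferInstanceAs (IsAffine ((Y _).affineCover.X _)),
      ∐ Y, g, fun j => (C (e.symm j).1).f (e.symm j).2 ≫ Sigma.ι Y (e.symm j).1, inferInstance, inferInstance,
      fun j => ?_, fun j => by simp [g], fun x => ?_⟩,
    fun j => ⟨(e.symm j).1, (C (e.symm j).1).f (e.symm j).2 ≫ (E.f (e.symm j).1 ⁻¹ᵁ U.1).ι, ?_⟩⟩
  · haveI : IsOpenImmersion ((C (e.symm j).1).f (e.symm j).2) := (C _).map_prop _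
    infer_instance
  · obtain ⟨i, y, rfl⟩ := (sigmaOpenCover Y).exists_eq x
    obtain ⟨k, z, rfl⟩ := (C i).exists_eq y
    have h : ∀ p : Σ i, (C i).I₀, p = ⟨i, k⟩ →
        ∃ z', ((C p.1).f p.2 ≫ Sigma.ι Y p.1) z' = Sigma.ι Y i ((C i).f k z) := by
      rintro p rfl; exact ⟨z, rfl⟩
    exact ⟨e ⟨i, k⟩, h _ (e.symm_apply_apply _)⟩
  · change (_ ≫ (E.f _ ⁻¹ᵁ U.1).ι) ≫ E.f _ = (_ ≫ (E.f _ ∣_ U.1)) ≫ U.1.ι
    rw [Category.assoc, Category.assoc, morphismRestrict_ι]

theorem isSheafFor_of_proper_family (F : ShPh S) {X : Over S} {ι : Type u} [Finite ι] (Z : ι → Over S) (g : ∀ i, Z i ⟶ X)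
    (hp : ∀ i, IsProper (g i).left) (hs : ∀ t : X.left, ∃ i x, (g i).left x = t) :
    Presieve.IsSheafFor F.obj (Presieve.ofArrows Z g) := by
  let E : PreZeroHypercover.{u} X.left := ⟨ι, fun i => (Z i).left, fun i => (g i).left⟩
  haveI : Finite E.I₀ := ‹Finite ι›
  rw [Presieve.isSheafFor_iff_generate]
  refine (isSheaf_iff_isSheaf_of_type _ _).mp F.property _ ?_
  rw [GrothendieckTopology.mem_over_iff]
  refine phPrecoverage.toGrothendieck.superset_covering (le_of_eq (Sieve.overEquiv_ofArrows Z g).symm) ?_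
  exact Precoverage.generate_mem_toGrothendieck
    ((presieve₀_mem_phPrecoverage_iff E).mpr (isPhCover_of_proper_family E hp hs))

variable {E Z X' X : Over S}

/-- The descent statement behind the two square theorems. -/
theorem existsUnique_glue (F : ShPh S) (e : E ⟶ X') (π : E ⟶ Z) (b : X' ⟶ X) (i : Z ⟶ X)
    [IsClosedImmersion i.left]
    [IsProper b.left]
    (hsq : IsPullback e.left π.left b.left i.left)
    (hsurj : ∀ x : X.left, x ∉ Set.range i.left → ∃ y, b.left y = x)
    (hinj : ∀ ⦃K : Type u⦄ [Field K] (l₁ l₂ : Spec (CommRingCat.of K) ⟶ X'.left),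
      l₁ ≫ b.left = l₂ ≫ b.left → (∀ k, (l₁ ≫ b.left) k ∉ Set.range i.left) → l₁ = l₂)
    (t : F.obj.obj (op Z)) (s' : F.obj.obj (op X')) (hts : F.obj.map π.op t = F.obj.map e.op s') :
    ∃! s : F.obj.obj (op X), F.obj.map i.op s = t ∧ F.obj.map b.op s = s' := by
  have hb : b.left ≫ X.hom = X'.hom := Over.w b
  have hi : i.left ≫ X.hom = Z.hom := Over.w i
  have hfac : ∀ {W : Over S} (g : W ⟶ X') (a : W ⟶ Z), g ≫ b = a ≫ i → F.obj.map g.op s' = F.obj.map a.op t := by
    intro W g a h
    let m : W ⟶ E := Over.homMk (hsq.lift g.left a.left congr(($h).left))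
      (by rw [← Over.w e, ← Category.assoc, hsq.lift_fst]; exact Over.w g)
    have hm₁ : m ≫ e = g := Over.OverMorphism.ext (hsq.lift_fst _ _ _)
    have hm₂ : m ≫ π = a := Over.OverMorphism.ext (hsq.lift_snd _ _ _)
    rw [← hm₁, ← hm₂, op_comp, op_comp, Functor.map_comp, Functor.map_comp]
    exact congrArg (F.obj.map m.op) hts.symm
  have hsep : ∀ {W : Over S} (g₁ g₂ : W ⟶ X'), g₁ ≫ b = g₂ ≫ b → F.obj.map g₁.op s' = F.obj.map g₂.op s' := by
    intro W g₁ g₂ h
    have h' : g₁.left ≫ b.left = g₂.left ≫ b.left := congr(($h).left)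
    let d := pullback.fst (pullback.lift g₁.left g₂.left h') (pullback.diagonal b.left)
    let q := pullback.fst (g₁.left ≫ b.left) i.left
    let Zf : ULift.{u} Bool → Over S := fun k => bif k.down then Over.mk (d ≫ W.hom) else Over.mk (q ≫ W.hom)
    let gf : ∀ k, Zf k ⟶ W := fun k => match k with
      | ⟨true⟩ => Over.homMk d rfl
      | ⟨false⟩ => Over.homMk q rfl
    haveI : IsClosedImmersion d := MorphismProperty.pullback_fst _ _ inferInstance
    haveI : IsClosedImmersion q := MorphismProperty.pullback_fst _ _ inferInstance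
    have hsh := isSheafFor_of_proper_family F Zf gf
      (by
        rintro ⟨_ | _⟩
        · change IsProper q
          infer_instance
        · change IsProper d
          infer_instance)
      (fun w => by
        by_cases hw : b.left (g₁.left w) ∈ Set.range i.left
        · obtain ⟨z, hz⟩ := hw
          obtain ⟨p, hp, -⟩ := Scheme.Pullback.exists_preimage_pullback (f := g₁.left ≫ b.left) (g := i.left) w z hz.symm
          exact ⟨⟨false⟩, p, hp⟩
        · let k := W.left.fromSpecResidueField w
          have e : k ≫ g₁.left = k ≫ g₂.left := hinj _ _ (by rw [Category.assoc, Category.assoc, h']) fun c => by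
            have hc : k c = w := Scheme.fromSpecResidueField_apply w c
            change b.left (g₁.left (k c)) ∉ _
            exact (congrArg (fun z => b.left (g₁.left z)) hc) ▸ hw
          let m := pullback.lift (f := pullback.lift g₁.left g₂.left h') (g := pullback.diagonal b.left) k (k ≫ g₁.left)
            (pullback.hom_ext (by simp) (by simp [e]))
          refine ⟨⟨true⟩, m (closedPoint (W.left.residueField w)), ?_⟩
          change (m ≫ d) _ = w
          rw [show m ≫ d = k from pullback.lift_fst _ _ _]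
          exact Scheme.fromSpecResidueField_apply _ _)
    refine hsh.isSeparatedFor.ext ?_
    rintro _ _ ⟨k⟩
    rcases k with ⟨_ | _⟩
    · let a₁ : Over.mk (q ≫ W.hom) ⟶ Z := Over.homMk (pullback.snd (g₁.left ≫ b.left) i.left) (by
        change pullback.snd _ _ ≫ Z.hom = q ≫ W.hom
        rw [← hi, ← Category.assoc, ← pullback.condition, Category.assoc, Category.assoc, hb, Over.w g₁])
      let q' : Over.mk (q ≫ W.hom) ⟶ W := Over.homMk q rfl
      change F.obj.map q'.op (F.obj.map g₁.op s') = F.obj.map q'.op (F.obj.map g₂.op s')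
      have c₁ : (q' ≫ g₁) ≫ b = a₁ ≫ i := Over.OverMorphism.ext (by
        change (q ≫ g₁.left) ≫ b.left = pullback.snd _ _ ≫ i.left
        rw [Category.assoc, ← pullback.condition])
      have c₂ : (q' ≫ g₂) ≫ b = a₁ ≫ i := by rw [Category.assoc, ← h, ← Category.assoc, c₁]
      rw [← ConcreteCategory.comp_apply, ← ConcreteCategory.comp_apply, ← Functor.map_comp, ← Functor.map_comp,
        ← op_comp, ← op_comp, hfac _ _ c₁, hfac _ _ c₂]
    · let d' : Over.mk (d ≫ W.hom) ⟶ W := Over.homMk d rfl
      change F.obj.map d'.op (F.obj.map g₁.op s') = F.obj.map d'.op (F.obj.map g₂.op s')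
      have c : d' ≫ g₁ = d' ≫ g₂ := Over.OverMorphism.ext (by
        change d ≫ g₁.left = d ≫ g₂.left
        have hc := pullback.condition (f := pullback.lift g₁.left g₂.left h') (g := pullback.diagonal b.left)
        have h1 := congr($hc ≫ pullback.fst _ _)
        have h2 := congr($hc ≫ pullback.snd _ _)
        simp only [Category.assoc, pullback.lift_fst, pullback.lift_snd, pullback.diagonal_fst, pullback.diagonal_snd,
          Category.comp_id] at h1 h2
        exact h1.trans h2.symm)
      rw [← ConcreteCategory.comp_apply, ← ConcreteCategory.comp_apply, ← Functor.map_comp, ← Functor.map_comp,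
        ← op_comp, ← op_comp, c]
  let Zf : ULift.{u} Bool → Over S := fun k => bif k.down then X' else Z
  let gf : ∀ k, Zf k ⟶ X := fun k => match k with
    | ⟨true⟩ => b
    | ⟨false⟩ => i
  have hsh := isSheafFor_of_proper_family F Zf gf
    (by
        rintro ⟨_ | _⟩
        · change IsProper i.left
          infer_instance
        · change IsProper b.left
          infer_instance)
    (fun x => by
      by_cases hx : x ∈ Set.range i.left
      · obtain ⟨z, hz⟩ := hx
        exact ⟨⟨false⟩, z, hz⟩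
      · obtain ⟨y, hy⟩ := hsurj x hx
        exact ⟨⟨true⟩, y, hy⟩)
  rw [Presieve.isSheafFor_arrows_iff] at hsh
  let xf : ∀ k, F.obj.obj (op (Zf k)) := fun k => match k with
    | ⟨true⟩ => s'
    | ⟨false⟩ => t
  obtain ⟨s, hs, huniq⟩ := hsh xf (by
    rintro ⟨_ | _⟩ ⟨_ | _⟩ W g₁ g₂ h
    · haveI : Mono i := Over.mono_of_mono_left i
      rw [show g₁ = g₂ from (cancel_mono i).mp h]
    · exact (hfac g₂ g₁ h.symm).symm
    · exact hfac g₁ g₂ h
    · exact hsep g₁ g₂ h)
  exact ⟨s, ⟨hs ⟨false⟩, hs ⟨true⟩⟩, fun y hy => huniq y (by rintro ⟨_ | _⟩; exacts [hy.1, hy.2])⟩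

theorem fg_ker_ideal {Z X : Scheme.{u}} (i : Z ⟶ X) [IsClosedImmersion i] [LocallyOfFinitePresentation i]
    (U : X.affineOpens) : (i.ker.ideal U).FG := by
  rw [Scheme.Hom.ker_apply]
  have hf : (i.app U.1).hom.FinitePresentation := by
    rw [← Scheme.Hom.appLE_eq_app]
    exact HasRingHomProperty.appLE @LocallyOfFinitePresentation i inferInstance U
      ⟨i ⁻¹ᵁ U.1, U.2.preimage i⟩ le_rfl
  letI := (i.app U.1).hom.toAlgebra
  haveI : Algebra.FinitePresentation Γ(X, U.1) Γ(Z, i ⁻¹ᵁ U.1) := hf
  exact Algebra.FinitePresentation.ker_fG_of_surjective (Algebra.ofId Γ(X, U.1) Γ(Z, i ⁻¹ᵁ U.1))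
    (i.app_surjective U.1 U.2)

end Groth.Agent.HTopPh
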