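import Groth.Agent.ChowX.Main
import Groth.Agent.HTopPh.Square
import Groth.Agent.HTopCov.V
import Groth.Agent.H23.RedSub

/-!
# Standard ph coverings compose up to refinement

Chow's lemma, applied on the strata of a finite affine cover, turns a proper morphism to an affine scheme into finitely many
closed subschemes of projective spaces; these extend by closure over any open immersion of the affine base, so no
compactification theorem is needed.
-/

set_option autoImplicit false
set_option linter.style.haveILetI false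
set_option backward.isDefEq.respectTransparency false
set_option backward.isDefEq.respectTransparency.types false

universe w w' u

open CategoryTheory CategoryTheory.Limits AlgebraicGeometry TopologicalSpace HTop
open CohB1 (ProjSpaceOver)

namespace Groth.Agent.HTopPh

/-- A proper morphism to an affine scheme is covered by finitely many closed subschemes of projective spaces. -/
theorem exists_chow_family {X T : Scheme.{u}} [IsAffine T] (f : X ⟶ T) [IsProper f] :
    ∃ (κ : Type) (_ : Finite κ) (n : κ → ℕ) (X' : κ → Scheme.{u}) (π : ∀ a, X' a ⟶ X)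
      (j : ∀ a, X' a ⟶ ProjSpaceOver (n a) T),
      (∀ a, IsClosedImmersion (j a)) ∧ (∀ a, j a ≫ CohB1.ProjSpaceOver.toBase (n a) T = π a ≫ f) ∧
        ∀ x : X, ∃ a y, π a y = x := by
  classical
  haveI : CompactSpace X := QuasiCompact.compactSpace_of_compactSpace f
  haveI : QuasiSeparatedSpace X := ChowX.quasiSeparatedSpace_of_isSeparated f
  obtain ⟨k, U, hU, hcov⟩ := ChowX.exists_affine_cover X
  let κ := {s : Finset (Fin (k + 1)) // s.Nonempty}
  have hκ : ∀ s : κ, ∃ (n : ℕ) (X' : Scheme.{u}) (π : X' ⟶ X) (j : X' ⟶ ProjSpaceOver n T),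
      IsClosedImmersion j ∧ j ≫ CohB1.ProjSpaceOver.toBase n T = π ≫ f ∧
        ∀ x : X, (∀ i, i ∈ s.1 ↔ x ∈ U i) → ∃ y, π y = x := by
    intro s
    let S₀ : Set X := {x | ∀ i, i ∈ s.1 ↔ x ∈ U i}
    let I := Scheme.IdealSheafData.vanishingIdeal (⟨closure S₀, isClosed_closure⟩ : Closeds X)
    let ι := I.subschemeι
    have hrange : Set.range ι = closure S₀ := H23.RedSub.range_vanishingIdeal _
    obtain ⟨m, hm⟩ := Nat.exists_eq_add_of_le' s.2.card_pos
    let e : Fin (m + 1) ≃ s.1 := (finCongr hm.symm).trans s.1.equivFin.symm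
    let U' : Fin (m + 1) → I.subscheme.Opens := fun a => ι ⁻¹ᵁ U (e a).1
    have hout : ∀ i, i ∉ s.1 → Disjoint (closure S₀) (U i : Set X) := fun i hi =>
      (Disjoint.closure_left (Set.disjoint_left.2 fun x hx hxi => hi ((hx i).2 hxi)) (U i).2)
    have hcov' : ∀ z, ∃ a, z ∈ U' a := fun z => by
      obtain ⟨i, hi⟩ := hcov (ι z)
      by_cases his : i ∈ s.1
      · exact ⟨e.symm ⟨i, his⟩, by simpa [U'] using hi⟩
      · exact absurd hi (Set.disjoint_left.1 (hout i his) (hrange.le ⟨z, rfl⟩))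
    let W₀ : X.Opens := s.1.inf U
    have hW₀ : IsCompact (W₀ : Set X) := by
      have : ∀ t : Finset (Fin (k + 1)), IsCompact ((t.inf U : X.Opens) : Set X) := fun t => by
        induction t using Finset.induction_on with
        | empty => simpa using isCompact_univ
        | insert a t _ ih =>
          rw [Finset.inf_insert, Opens.coe_inf]
          exact (hU a).isCompact.inter_of_isOpen ih (U a).2 (t.inf U).2
      exact this _
    haveI := ChowX.quasiCompact_ι W₀ hW₀
    let W : I.subscheme.Opens := ι ⁻¹ᵁ W₀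
    haveI : CompactSpace I.subscheme := QuasiCompact.compactSpace_of_compactSpace ι
    haveI : QuasiSeparatedSpace I.subscheme := ChowX.quasiSeparatedSpace_of_isSeparated (ι ≫ f)
    haveI : QuasiCompact W.ι := ChowX.quasiCompact_ι W (ι.isCompact_preimage hW₀)
    obtain ⟨n, X', π, j, γ, hπ, hj, hjqc, hjr, -, -, hdom, hγπ⟩ := ChowX.chow_core (ι ≫ f) U'
      (fun a => (hU _).preimage ι) hcov' W (fun a z hz => (Finset.inf_le (e a).2 : W₀ ≤ U (e a).1) hz)
    haveI := ChowX.isProper_of_isHProjective hπ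
    haveI : IsProper (CohB1.ProjSpace.toSpec n (ULift.{u} ℤ)) := PnCoh.Chow.isProper_toSpec n _
    haveI : IsSeparated (CohB1.ProjSpaceOver.toBase n T) := MorphismProperty.pullback_snd _ _ inferInstance
    haveI : IsProper (j ≫ CohB1.ProjSpaceOver.toBase n T) := by rw [hjr]; infer_instance
    haveI : IsProper j := IsProper.of_comp j (CohB1.ProjSpaceOver.toBase n T)
    refine ⟨n, X', π ≫ ι, j, IsClosedImmersion.of_isPreimmersion j j.isClosedMap.isClosed_range,
      by rw [hjr, Category.assoc], fun x hx => ?_⟩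
    have hxW : x ∈ W₀ := by
      have : ∀ t : Finset (Fin (k + 1)), t ⊆ s.1 → x ∈ (t.inf U : X.Opens) := fun t => by
        induction t using Finset.induction_on with
        | empty => simp
        | insert a t _ ih =>
          intro ht
          rw [Finset.inf_insert]
          exact ⟨(hx a).1 (ht (Finset.mem_insert_self a t)), ih ((Finset.subset_insert a t).trans ht)⟩
      exact this _ subset_rfl
    obtain ⟨z, hz⟩ : x ∈ Set.range ι := hrange.ge (subset_closure hx)
    have hzW : z ∈ W := show ι z ∈ W₀ from hz ▸ hxW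
    exact ⟨γ ⟨z, hzW⟩, by rw [← Scheme.Hom.comp_apply, reassoc_of% hγπ]; exact hz⟩
  choose n X' π j hj hjπ hsurj using hκ
  refine ⟨κ, inferInstance, n, X', π, j, hj, hjπ, fun x => ?_⟩
  let s : Finset (Fin (k + 1)) := Finset.univ.filter fun i => x ∈ U i
  obtain ⟨i, hi⟩ := hcov x
  exact ⟨⟨s, i, by simp [s, hi]⟩, hsurj _ x fun i => by simp [s]⟩

/-- A proper surjective morphism to an affine open extends to a proper surjective morphism of the whole scheme, up to
replacing it by one factoring through it. -/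
theorem exists_proper_extension {U V Z : Scheme.{u}} [IsAffine V] (ι : V ⟶ U) [IsOpenImmersion ι]
    (q : Z ⟶ V) [IsProper q] [Surjective q] :
    ∃ (W : Scheme.{u}) (w : W ⟶ U), IsProper w ∧ Surjective w ∧
      ∀ x : W, w x ∈ Set.range ι →
        ∃ (A : W.Opens) (a : (A : Scheme.{u}) ⟶ Z), x ∈ A ∧ a ≫ q ≫ ι = A.ι ≫ w := by
  classical
  obtain ⟨κ, hκ, n, X', π, j, hj, hjπ, hcov⟩ := exists_chow_family q
  let m : ∀ a, ProjSpaceOver (n a) V ⟶ ProjSpaceOver (n a) U := fun a =>
    pullback.map _ _ _ _ (𝟙 _) ι (𝟙 _) (by simp) (specULiftZIsTerminal.hom_ext _ _)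
  have hm : ∀ a, IsPullback (m a) (CohB1.ProjSpaceOver.toBase (n a) V) (CohB1.ProjSpaceOver.toBase (n a) U) ι := by
    intro a
    refine IsPullback.of_right (h₁₁ := m a) ?_ (pullback.lift_snd _ _ _) (IsPullback.of_hasPullback _ _)
    have e : ι ≫ specULiftZIsTerminal.from U = specULiftZIsTerminal.from V := specULiftZIsTerminal.hom_ext _ _
    simpa [m, e] using! IsPullback.of_hasPullback (CohB1.ProjSpace.toSpec (n a) (ULift.{u} ℤ))
      (specULiftZIsTerminal.from V)
  let C : ∀ a, Closeds (ProjSpaceOver (n a) U) := fun a => ⟨closure (Set.range (j a ≫ m a)), isClosed_closure⟩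
  let K : Closeds U := ⟨(Set.range ι)ᶜ, ι.isOpenEmbedding.isOpen_range.isClosed_compl⟩
  let Y : Option κ → Scheme.{u} := fun o => match o with
    | none => (Scheme.IdealSheafData.vanishingIdeal K).subscheme
    | some a => (Scheme.IdealSheafData.vanishingIdeal (C a)).subscheme
  let y : ∀ o, Y o ⟶ U := fun o => match o with
    | none => (Scheme.IdealSheafData.vanishingIdeal K).subschemeι
    | some a => (Scheme.IdealSheafData.vanishingIdeal (C a)).subschemeι ≫ CohB1.ProjSpaceOver.toBase (n a) U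
  haveI hy : ∀ o, IsProper (y o) := fun o => by
    cases o with
    | none => exact inferInstanceAs (IsProper (Scheme.IdealSheafData.vanishingIdeal K).subschemeι)
    | some a =>
      haveI : IsProper (CohB1.ProjSpace.toSpec (n a) (ULift.{u} ℤ)) := PnCoh.Chow.isProper_toSpec (n a) _
      haveI : IsProper (CohB1.ProjSpaceOver.toBase (n a) U) := MorphismProperty.pullback_snd _ _ inferInstance
      exact inferInstanceAs (IsProper ((Scheme.IdealSheafData.vanishingIdeal (C a)).subschemeι ≫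
        CohB1.ProjSpaceOver.toBase (n a) U))
  let L := ULift.{u} (Option κ)
  haveI : IsProper (Sigma.desc fun o : L => y o.down) := isProper_sigmaDesc _ fun o => hy o.down
  refine ⟨_, Sigma.desc fun o : L => y o.down, inferInstance, ⟨fun u => ?_⟩, fun x hx => ?_⟩
  · suffices h : ∃ o z, y o z = u by
      obtain ⟨o, z, rfl⟩ := h
      exact ⟨Sigma.ι (fun o : L => Y o.down) ⟨o⟩ z, by
        rw [← Scheme.Hom.comp_apply, Sigma.ι_desc]⟩
    by_cases hu : u ∈ Set.range ι
    · obtain ⟨v, rfl⟩ := hu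
      obtain ⟨z, rfl⟩ := q.surjective v
      obtain ⟨a, z', rfl⟩ := hcov z
      obtain ⟨c, hc⟩ : (j a ≫ m a) z' ∈ Set.range (Scheme.IdealSheafData.vanishingIdeal (C a)).subschemeι :=
        (H23.RedSub.range_vanishingIdeal _).ge (subset_closure ⟨z', rfl⟩)
      refine ⟨some a, c, ?_⟩
      show ((Scheme.IdealSheafData.vanishingIdeal (C a)).subschemeι ≫ CohB1.ProjSpaceOver.toBase (n a) U) c = _
      rw [Scheme.Hom.comp_apply, hc, ← Scheme.Hom.comp_apply, Category.assoc, (hm a).w, reassoc_of% (hjπ a)]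
      rfl
    · obtain ⟨c, hc⟩ : u ∈ Set.range (Scheme.IdealSheafData.vanishingIdeal K).subschemeι :=
        (H23.RedSub.range_vanishingIdeal _).ge hu
      exact ⟨none, c, hc⟩
  · obtain ⟨⟨⟨o⟩, c⟩, rfl⟩ := (sigmaMk fun o : L => Y o.down).surjective x
    replace hx : y o c ∈ Set.range ι := by
      rwa [sigmaMk_mk, ← Scheme.Hom.comp_apply, Sigma.ι_desc] at hx
    cases o with
    | none =>
      exact absurd hx ((H23.RedSub.range_vanishingIdeal K).le ⟨c, rfl⟩)
    | some a =>
      let i := (Scheme.IdealSheafData.vanishingIdeal (C a)).subschemeι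
      let s : Y (some a) ⟶ ∐ fun o : L => Y o.down := Sigma.ι (fun o : L => Y o.down) ⟨some a⟩
      let B : (Y (some a)).Opens := (y (some a)) ⁻¹ᵁ ι.opensRange
      have hB : Set.range (B.ι ≫ i) ⊆ Set.range (m a) := by
        rintro _ ⟨b, rfl⟩
        obtain ⟨v, hv⟩ := b.2
        obtain ⟨t, ht, -⟩ := Scheme.exists_preimage_of_isPullback (hm a) (i b.1) v hv.symm
        exact ⟨t, ht⟩
      haveI : IsOpenImmersion (m a) := MorphismProperty.of_isPullback (P := @IsOpenImmersion) (hm a).flip inferInstance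
      let l := IsOpenImmersion.lift (m a) (B.ι ≫ i) hB
      have hl : l ≫ m a = B.ι ≫ i := IsOpenImmersion.lift_fac _ _ _
      obtain ⟨l', hl'⟩ := H23.RedSub.exists_lift_closed l (j a) (by
        haveI := hj a
        rintro _ ⟨b, rfl⟩
        have h1 : m a (l b) ∈ closure (m a '' Set.range (j a)) := by
          rw [← Scheme.Hom.comp_apply, hl, ← Set.range_comp]
          exact (H23.RedSub.range_vanishingIdeal (C a)).le ⟨B.ι b, rfl⟩
        have h2 : l b ∈ closure (Set.range (j a)) := by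
          rw [(m a).isOpenEmbedding.isInducing.closure_eq_preimage_closure_image]
          exact h1
        rwa [(j a).isClosedEmbedding.isClosed_range.closure_eq] at h2)
      let A := s ''ᵁ B
      have hA : Set.range A.ι ⊆ Set.range (B.ι ≫ s) := by
        rw [Scheme.Opens.range_ι]
        rintro _ ⟨b, hb, rfl⟩
        exact ⟨⟨b, hb⟩, rfl⟩
      let r := IsOpenImmersion.lift (B.ι ≫ s) A.ι hA
      have hr : r ≫ B.ι ≫ s = A.ι := IsOpenImmersion.lift_fac _ _ _
      refine ⟨A, r ≫ l' ≫ π a, ⟨c, hx, by simp [s, sigmaMk_mk]⟩, ?_⟩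
      have e1 : π a ≫ q ≫ ι = j a ≫ m a ≫ CohB1.ProjSpaceOver.toBase (n a) U := by
        rw [(hm a).w, reassoc_of% (hjπ a)]
      rw [Category.assoc, Category.assoc, e1, reassoc_of% hl', reassoc_of% hl, ← hr, Category.assoc, Category.assoc,
        Sigma.ι_desc]

/-- Finitely many proper surjective morphisms have a common refinement. -/
theorem exists_common {U : Scheme.{u}} : ∀ (m : ℕ) (W : Fin m → Scheme.{u}) (w : ∀ i, W i ⟶ U),
    (∀ i, IsProper (w i)) → (∀ i, Surjective (w i)) →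
      ∃ (W' : Scheme.{u}) (w' : W' ⟶ U), IsProper w' ∧ Surjective w' ∧ ∀ i, ∃ p : W' ⟶ W i, p ≫ w i = w'
  | 0, _, _, _, _ => ⟨U, 𝟙 U, inferInstance, inferInstance, fun i => i.elim0⟩
  | m + 1, W, w, hp, hs => by
    obtain ⟨W', w', hp', hs', hf⟩ := exists_common m (fun i => W i.succ) (fun i => w i.succ)
      (fun i => hp _) fun i => hs _
    haveI := hp 0
    haveI := hs 0
    refine ⟨pullback (w 0) w', pullback.fst _ _ ≫ w 0, inferInstance, inferInstance, fun i => ?_⟩
    refine Fin.cases ⟨pullback.fst _ _, rfl⟩ (fun i => ?_) i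
    obtain ⟨p, hp⟩ := hf i
    exact ⟨pullback.snd _ _ ≫ p, by rw [Category.assoc, hp, pullback.condition]⟩

/-- A finite family of opens covering a compact scheme, refined to affines, is standard ph over a proper surjection. -/
theorem exists_standardPh_of_local {T W : Scheme.{u}} [IsAffine T] (g : W ⟶ T) [IsProper g] [Surjective g]
    {α : Type w} (V : α → Scheme.{u}) (v : ∀ a, V a ⟶ T)
    (h : ∀ x : W, ∃ (A : W.Opens) (a : α) (e : (A : Scheme.{u}) ⟶ V a), x ∈ A ∧ e ≫ v a = A.ι ≫ g) :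
    ∃ F : PreZeroHypercover.{0} T, IsStandardPh F ∧ ∀ j : F.I₀, ∃ (a : α) (e : F.X j ⟶ V a), e ≫ v a = F.f j := by
  classical
  haveI : CompactSpace W := QuasiCompact.compactSpace_of_compactSpace g
  choose A a e hxA he using h
  have hA : ∀ x : W, ∃ B : W.Opens, IsAffineOpen B ∧ x ∈ B ∧ B ≤ A x := fun x => by
    obtain ⟨B, hB, hxB, hle⟩ := exists_isAffineOpen_mem_and_subset (hxA x)
    exact ⟨B, hB, hxB, hle⟩
  choose B hB hxB hBA using hA
  obtain ⟨t, ht⟩ := isCompact_univ.elim_finite_subcover (fun x => (B x : Set W)) (fun x => (B x).2)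
    fun x _ => Set.mem_iUnion.2 ⟨x, hxB x⟩
  let c := t.equivFin.symm
  refine ⟨⟨Fin t.card, fun i => (B (c i).1 : Scheme.{u}), fun i => (B (c i).1).ι ≫ g⟩,
    ⟨inferInstance, inferInstanceAs (Finite (Fin _)), fun i => hB _, W, g, fun i => (B (c i).1).ι, inferInstance,
      inferInstance, fun i => inferInstanceAs (IsOpenImmersion (B (c i).1).ι), fun i => rfl, fun x => ?_⟩,
    fun i => ⟨a (c i).1, W.homOfLE (hBA _) ≫ e _, by rw [Category.assoc, he, Scheme.homOfLE_ι_assoc]⟩⟩
  obtain ⟨y, hy, hxy⟩ := Set.mem_iUnion₂.1 (ht (Set.mem_univ x))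
  exact ⟨t.equivFin ⟨y, hy⟩, ⟨x, by simpa [c] using hxy⟩, rfl⟩

/-- A composite of standard ph coverings is refined by a standard ph covering. -/
theorem exists_standardPh_bind {T : Scheme.{u}} (E : PreZeroHypercover.{w} T) (hE : IsStandardPh E)
    (F : ∀ j, PreZeroHypercover.{w'} (E.X j)) (hF : ∀ j, IsStandardPh (F j)) :
    ∃ F' : PreZeroHypercover.{0} T, IsStandardPh F' ∧ Nonempty (F'.Hom (E.bind F)) := by
  classical
  obtain ⟨U, f, ι, hf, hs, hι, hιf, hcov⟩ := hE.exists_proper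
  haveI := hE.isAffine
  haveI := hE.finite_index
  choose Z q z hq hqs hz hzq hzcov using fun j => (hF j).exists_proper
  have hext := fun j =>
    haveI := hE.isAffine_obj j
    haveI := hι j
    haveI := hq j
    haveI := hqs j
    exists_proper_extension (ι j) (q j)
  choose W wj hwp hws hlift using hext
  obtain ⟨m, ⟨c⟩⟩ := Finite.exists_equiv_fin E.I₀
  obtain ⟨W', w', hp', hs', hfac⟩ := exists_common m (fun i => W (c.symm i)) (fun i => wj (c.symm i))
    (fun i => hwp _) fun i => hws _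
  have hfac' : ∀ j, ∃ p : W' ⟶ W j, p ≫ wj j = w' := fun j => by
    have h := hfac (c j)
    rw [c.symm_apply_apply] at h
    exact h
  choose p hp using hfac'
  obtain ⟨F', hF', h⟩ := exists_standardPh_of_local (w' ≫ f) (E.bind F).X (E.bind F).f (fun x => by
    obtain ⟨j, hj⟩ := hcov (w' x)
    obtain ⟨A, a, hxA, ha⟩ := hlift j (p j x) (by rwa [← Scheme.Hom.comp_apply, hp])
    obtain ⟨l, hl⟩ := hzcov j (a ⟨p j x, hxA⟩)
    haveI := hz j l
    let b : (((p j) ⁻¹ᵁ A : W'.Opens) : Scheme.{u}) ⟶ Z j := (p j ∣_ A) ≫ a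
    let A' : W'.Opens := ((p j) ⁻¹ᵁ A).ι ''ᵁ (b ⁻¹ᵁ (z j l).opensRange)
    have hle : A' ≤ (p j) ⁻¹ᵁ A := Scheme.Opens.ι_image_le _ _
    let e := IsOpenImmersion.lift (z j l) (W'.homOfLE hle ≫ b) (by
      rintro _ ⟨⟨y, y', hy', rfl⟩, rfl⟩
      show b (W'.homOfLE hle ⟨_, y', hy', rfl⟩) ∈ Set.range (z j l)
      have : W'.homOfLE hle ⟨_, y', hy', rfl⟩ = y' := ((p j) ⁻¹ᵁ A).ι.injective (by
        rw [← Scheme.Hom.comp_apply, Scheme.homOfLE_ι]; rfl)
      rw [this]
      exact hy')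
    refine ⟨A', ⟨j, l⟩, e, ⟨⟨x, hxA⟩, ?_, rfl⟩, ?_⟩
    · show b ⟨x, hxA⟩ ∈ Set.range (z j l)
      have e1 : (p j ∣_ A) ⟨x, hxA⟩ = ⟨p j x, hxA⟩ := Subtype.ext (morphismRestrict_base_coe _ _ _)
      simp only [b, Scheme.Hom.comp_apply, e1]
      exact hl
    have he : e ≫ z j l = W'.homOfLE hle ≫ b := IsOpenImmersion.lift_fac _ _ _
    show e ≫ (F j).f l ≫ E.f j = _
    rw [← hzq j l, ← hιf j, Category.assoc, reassoc_of% he, show b ≫ q j ≫ ι j ≫ f =
      ((p j) ⁻¹ᵁ A).ι ≫ w' ≫ f by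
        simp only [b, Category.assoc]
        rw [reassoc_of% ha, morphismRestrict_ι_assoc, reassoc_of% hp], Scheme.homOfLE_ι_assoc])
  choose s e he using h
  exact ⟨F', hF', ⟨⟨s, e, he⟩⟩⟩

/-- An open covering of an affine scheme is refined by a standard ph covering. -/
theorem exists_standardPh_openCover {T : Scheme.{u}} [IsAffine T] (𝒰 : T.OpenCover) :
    ∃ F : PreZeroHypercover.{0} T, IsStandardPh F ∧ Nonempty (F.Hom 𝒰.toPreZeroHypercover) := by
  obtain ⟨F, hF, h⟩ := exists_standardPh_of_local (𝟙 T) 𝒰.X 𝒰.f (fun x => by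
    obtain ⟨i, hi⟩ := 𝒰.exists_eq x
    haveI := 𝒰.map_prop i
    refine ⟨(𝒰.f i).opensRange, i, IsOpenImmersion.lift (𝒰.f i) (𝒰.f i).opensRange.ι ?_, hi, ?_⟩
    · rw [Scheme.Opens.range_ι]; rfl
    · rw [IsOpenImmersion.lift_fac, Category.comp_id])
  choose s e he using h
  exact ⟨F, hF, ⟨⟨s, e, he⟩⟩⟩

/-- A ph covering is refined, over every affine scheme mapping to the base, by a standard ph covering. -/
theorem exists_refine {S T : Scheme.{u}} {E : PreZeroHypercover.{w} T} (hE : IsPhCover E) [IsAffine S] (h : S ⟶ T) :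
    ∃ F : PreZeroHypercover.{0} S, IsStandardPh F ∧ RefinesOver h F E := by
  obtain ⟨G, hG, hGU⟩ := exists_standardPh_of_local (𝟙 S) (fun U : T.affineOpens => ((h ⁻¹ᵁ U.1 : S.Opens) : Scheme.{u}))
    (fun U => (h ⁻¹ᵁ U.1).ι) (fun x => by
      obtain ⟨U, hU, hx, -⟩ := exists_isAffineOpen_mem_and_subset (U := ⊤) (x := h x) trivial
      exact ⟨h ⁻¹ᵁ U, ⟨U, hU⟩, 𝟙 _, hx, by rw [Category.id_comp, Category.comp_id]⟩)
  choose U e he using hGU
  choose F hF hFE using fun j => hE.2 (U j)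
  haveI := hG.isAffine_obj
  obtain ⟨F', hF', ⟨r⟩⟩ := exists_standardPh_bind G hG (fun j => (F j).pullback₁ (e j ≫ (h ∣_ (U j).1)))
    fun j => HTopCov.standardPh_pullback₁ _ _ (hF j)
  refine ⟨F', hF', fun j => ?_⟩
  obtain ⟨i, k, hk⟩ := hFE (r.s₀ j).1 (r.s₀ j).2
  refine ⟨i, r.h₀ j ≫ pullback.snd _ _ ≫ k, ?_⟩
  have w1 : r.h₀ j ≫ pullback.fst _ _ ≫ G.f (r.s₀ j).1 = F'.f j := r.w₀ j
  rw [Category.assoc, Category.assoc, hk, ← pullback.condition_assoc, ← w1]
  simp only [Category.assoc, morphismRestrict_ι]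
  rw [reassoc_of% (he (r.s₀ j).1)]

theorem isPhCover_pullback₁ {S T : Scheme.{u}} (g : S ⟶ T) (E : PreZeroHypercover.{w} T) (hE : IsPhCover E) :
    IsPhCover (E.pullback₁ g) := by
  refine ⟨fun i => ?_, fun U => ?_⟩
  · haveI := hE.1 i
    exact inferInstanceAs (LocallyOfFiniteType (pullback.fst g (E.f i)))
  · haveI : IsAffine (U.1 : Scheme) := U.2
    obtain ⟨F, hF, hr⟩ := exists_refine hE (U.1.ι ≫ g)
    refine ⟨F, hF, fun j => ?_⟩
    obtain ⟨i, k, hk⟩ := hr j
    exact ⟨i, pullback.lift (F.f j ≫ U.1.ι) k (by rw [Category.assoc, hk]), pullback.lift_fst _ _ _⟩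

theorem isPhCover_bind {T : Scheme.{u}} (E : PreZeroHypercover.{w} T) (hE : IsPhCover E)
    (F : ∀ i, PreZeroHypercover.{w'} (E.X i)) (hF : ∀ i, IsPhCover (F i)) : IsPhCover (E.bind F) := by
  refine ⟨fun p => ?_, fun U => ?_⟩
  · haveI := hE.1 p.1
    haveI := (hF p.1).1 p.2
    exact inferInstanceAs (LocallyOfFiniteType ((F p.1).f p.2 ≫ E.f p.1))
  · obtain ⟨G, hG, hr⟩ := hE.2 U
    choose i k hk using hr
    haveI := hG.isAffine_obj
    choose H hH hr' using fun j => exists_refine (hF (i j)) (k j)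
    obtain ⟨G', hG', ⟨r⟩⟩ := exists_standardPh_bind G hG H hH
    refine ⟨G', hG', fun j => ?_⟩
    obtain ⟨i', k', hk'⟩ := hr' (r.s₀ j).1 (r.s₀ j).2
    refine ⟨⟨i (r.s₀ j).1, i'⟩, r.h₀ j ≫ k', ?_⟩
    change (r.h₀ j ≫ k') ≫ (F _).f i' ≫ E.f (i (r.s₀ j).1) = G'.f j ≫ U.1.ι
    have w1 : r.h₀ j ≫ (H (r.s₀ j).1).f (r.s₀ j).2 ≫ G.f (r.s₀ j).1 = G'.f j := r.w₀ j
    rw [← w1]
    simp only [Category.assoc]
    rw [reassoc_of% hk', hk]

end Groth.Agent.HTopPh
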